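import Groth.Prelude.Def_ega3
import Mathlib.Algebra.Category.ModuleCat.Products
import Mathlib.Algebra.Homology.ShortComplex.ModuleCat
import Mathlib.LinearAlgebra.TensorProduct.Basis

/-!
# `M ↦ H_p(P ⊗_A M)` commutes with products when the terms of `P` are finite free
-/

set_option autoImplicit false
universe u v

open CategoryTheory CategoryTheory.Limits

namespace K836.TFunProd

section Homology

variable {A : Type u} [CommRing A]

/-- `φ` is jointly bijective: the map to the product is bijective. -/
def JB {J : Type v} {X : ModuleCat.{u} A} {Y : J → ModuleCat.{u} A} (φ : ∀ j, X ⟶ Y j) : Prop :=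
  Function.Bijective (fun (x : X) (j : J) => (φ j).hom x)

theorem JB.ext {J : Type v} {X : ModuleCat.{u} A} {Y : J → ModuleCat.{u} A} {φ : ∀ j, X ⟶ Y j}
    (h : JB φ) {x y : X} (hxy : ∀ j, (φ j).hom x = (φ j).hom y) : x = y :=
  h.1 (funext hxy)

theorem JB.exists {J : Type v} {X : ModuleCat.{u} A} {Y : J → ModuleCat.{u} A} {φ : ∀ j, X ⟶ Y j}
    (h : JB φ) (y : ∀ j, Y j) : ∃ x : X, ∀ j, (φ j).hom x = y j := by
  obtain ⟨x, hx⟩ := h.2 y
  exact ⟨x, fun j => congrFun hx j⟩

lemma exists_cycles (S : ShortComplex (ModuleCat.{u} A)) (w : S.X₂) (hw : S.g.hom w = 0) :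
    ∃ z : S.cycles, S.iCycles.hom z = w := by
  have h := ShortComplex.exact_of_f_is_kernel (ShortComplex.mk _ _ S.iCycles_g) S.cyclesIsKernel
  rw [ShortComplex.moduleCat_exact_iff] at h
  exact h w hw

lemma iCycles_inj (S : ShortComplex (ModuleCat.{u} A)) : Function.Injective S.iCycles.hom :=
  (ModuleCat.mono_iff_injective _).mp inferInstance

lemma homologyπ_surj (S : ShortComplex (ModuleCat.{u} A)) : Function.Surjective S.homologyπ.hom :=
  (ModuleCat.epi_iff_surjective _).mp inferInstance

lemma exists_toCycles (S : ShortComplex (ModuleCat.{u} A)) (z : S.cycles) (hz : S.homologyπ.hom z = 0) :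
    ∃ y : S.X₁, S.toCycles.hom y = z := by
  have h := ShortComplex.exact_of_g_is_cokernel (ShortComplex.mk _ _ S.toCycles_comp_homologyπ)
    S.homologyIsCokernel
  rw [ShortComplex.moduleCat_exact_iff] at h
  exact h z hz

/-- Homology commutes with products of modules. -/
theorem JB.homology {J : Type v} {S : ShortComplex (ModuleCat.{u} A)}
    {T : J → ShortComplex (ModuleCat.{u} A)} (φ : ∀ j, S ⟶ T j)
    (h1 : JB (fun j => (φ j).τ₁)) (h2 : JB (fun j => (φ j).τ₂)) (h3 : JB (fun j => (φ j).τ₃)) :
    JB (fun j => ShortComplex.homologyMap (φ j)) := by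
  have hi : ∀ j (z : S.cycles), (T j).iCycles.hom ((ShortComplex.cyclesMap (φ j)).hom z) =
      (φ j).τ₂.hom (S.iCycles.hom z) := by
    intro j z
    rw [← ModuleCat.comp_apply, ← ModuleCat.comp_apply, ShortComplex.cyclesMap_i]
  have hπ : ∀ j (z : S.cycles), (ShortComplex.homologyMap (φ j)).hom (S.homologyπ.hom z) =
      (T j).homologyπ.hom ((ShortComplex.cyclesMap (φ j)).hom z) := by
    intro j z
    rw [← ModuleCat.comp_apply, ← ModuleCat.comp_apply, ShortComplex.homologyπ_naturality]
  have ht : ∀ (S : ShortComplex (ModuleCat.{u} A)) (y : S.X₁),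
      S.iCycles.hom (S.toCycles.hom y) = S.f.hom y := by
    intro S y
    rw [← ModuleCat.comp_apply, ShortComplex.toCycles_i]
  have hf : ∀ j (y : S.X₁), (φ j).τ₂.hom (S.f.hom y) = (T j).f.hom ((φ j).τ₁.hom y) := by
    intro j y
    rw [← ModuleCat.comp_apply, ← ModuleCat.comp_apply, (φ j).comm₁₂]
  have hg : ∀ j (y : S.X₂), (φ j).τ₃.hom (S.g.hom y) = (T j).g.hom ((φ j).τ₂.hom y) := by
    intro j y
    rw [← ModuleCat.comp_apply, ← ModuleCat.comp_apply, (φ j).comm₂₃]
  have hgi : ∀ (S : ShortComplex (ModuleCat.{u} A)) (z : S.cycles), S.g.hom (S.iCycles.hom z) = 0 := by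
    intro S z
    rw [← ModuleCat.comp_apply, S.iCycles_g]
    rfl
  constructor
  · intro x y hxy
    rw [← sub_eq_zero]
    obtain ⟨z, hz⟩ := homologyπ_surj S (x - y)
    rw [← hz]
    have hz' : ∀ j, (T j).homologyπ.hom ((ShortComplex.cyclesMap (φ j)).hom z) = 0 := by
      intro j
      rw [← hπ, hz, map_sub, sub_eq_zero]
      exact congrFun hxy j
    choose y' hy' using fun j => exists_toCycles (T j) _ (hz' j)
    obtain ⟨y0, hy0⟩ := h1.exists y'
    have : S.toCycles.hom y0 = z := by
      apply iCycles_inj
      rw [ht]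
      refine h2.ext fun j => ?_
      rw [hf, hy0, ← hi, ← hy', ht]
    rw [← this, ← ModuleCat.comp_apply, ShortComplex.toCycles_comp_homologyπ]
    rfl
  · intro x
    choose z hz using fun j => homologyπ_surj (T j) (x j)
    obtain ⟨w, hw⟩ := h2.exists (fun j => (T j).iCycles.hom (z j))
    have hw0 : S.g.hom w = 0 := by
      refine h3.ext fun j => ?_
      rw [hg, hw, hgi, map_zero]
    obtain ⟨z0, hz0⟩ := exists_cycles S w hw0
    refine ⟨S.homologyπ.hom z0, ?_⟩
    funext j
    show (ShortComplex.homologyMap (φ j)).hom (S.homologyπ.hom z0) = x j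
    rw [hπ, ← hz]
    congr 1
    apply iCycles_inj
    rw [hi, hz0, hw]

end Homology

section Tensor

variable {A : Type u} [CommRing A]

/-- Tensoring with a finite free module commutes with products. -/
theorem JB.tensor {J : Type v} (P : ModuleCat.{u} A) [Module.Finite A P] [Module.Free A P]
    {X : ModuleCat.{u} A} {Y : J → ModuleCat.{u} A} {φ : ∀ j, X ⟶ Y j} (h : JB φ) :
    JB (fun j => MonoidalCategory.whiskerLeft P (φ j)) := by
  classical
  let b := Module.Free.chooseBasis A P
  have key : ∀ {N N' : ModuleCat.{u} A} (f : N ⟶ N') (x : (MonoidalCategory.tensorObj P N : ModuleCat.{u} A))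
      (i : Module.Free.ChooseBasisIndex A P),
      TensorProduct.equivFinsuppOfBasisLeft b ((MonoidalCategory.whiskerLeft P f).hom x) i =
        f.hom (TensorProduct.equivFinsuppOfBasisLeft b x i) := by
    intro N N' f x i
    induction x using TensorProduct.induction_on with
    | zero => simp
    | tmul p n =>
      have : (MonoidalCategory.whiskerLeft P f).hom (p ⊗ₜ[A] n) = p ⊗ₜ[A] f.hom n := rfl
      rw [this]
      simp
    | add x y hx hy => rw [map_add, map_add, map_add, Finsupp.add_apply, Finsupp.add_apply, map_add, hx, hy]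
  constructor
  · intro x y hxy
    apply (TensorProduct.equivFinsuppOfBasisLeft (N := X) b).injective
    ext i
    refine h.ext fun j => ?_
    rw [← key, ← key]
    have := congrFun hxy j
    simp only at this
    rw [this]
  · intro y
    choose n hn using fun i : Module.Free.ChooseBasisIndex A P =>
      h.exists (fun j => TensorProduct.equivFinsuppOfBasisLeft b (y j) i)
    refine ⟨(TensorProduct.equivFinsuppOfBasisLeft (N := X) b).symm (Finsupp.equivFunOnFinite.symm n), ?_⟩
    funext j
    apply (TensorProduct.equivFinsuppOfBasisLeft (N := Y j) b).injective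
    ext i
    rw [key, LinearEquiv.apply_symm_apply]
    exact hn i j

end Tensor

section TFun

variable {A : Type u} [CommRing A] {ι : Type} {c : ComplexShape ι}

theorem JB.tFun {J : Type v} (P : HomologicalComplex (ModuleCat.{u} A) c)
    (hP : ∀ i, Module.Finite A (P.X i) ∧ Module.Free A (P.X i)) (p : ι)
    {X : ModuleCat.{u} A} {Y : J → ModuleCat.{u} A} {φ : ∀ j, X ⟶ Y j} (h : JB φ) :
    JB (fun j => (CohIII.TFun P p).map (φ j)) := by
  have hX : ∀ i, JB (fun j => (CohIII.tensorMap P (φ j)).f i) := by
    intro i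
    have := (hP i).1
    have := (hP i).2
    exact h.tensor (P.X i)
  exact JB.homology (fun j => (HomologicalComplex.shortComplexFunctor _ c p).map (CohIII.tensorMap P (φ j)))
    (hX _) (hX _) (hX _)

end TFun

section Limits

variable {A : Type u} [CommRing A]

/-- A functor to abelian groups which sends jointly bijective families to jointly bijective families
preserves products. -/
theorem preservesLimitsOfShape {J : Type u} (G : ModuleCat.{u} A ⥤ AddCommGrpCat.{u})
    (hG : ∀ (X : ModuleCat.{u} A) (Y : J → ModuleCat.{u} A) (φ : ∀ j, X ⟶ Y j), JB φ →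
      Function.Bijective (fun (x : G.obj X) (j : J) => (G.map (φ j)).hom x)) :
    PreservesLimitsOfShape (Discrete J) G := by
  have : ∀ Z : J → ModuleCat.{u} A, PreservesLimit (Discrete.functor Z) G := by
    intro Z
    refine preservesLimit_of_preserves_limit_cone (ModuleCat.productConeIsLimit Z) ?_
    let φ : ∀ j, ModuleCat.of A (∀ j, Z j) ⟶ Z j := fun j => ModuleCat.ofHom (LinearMap.proj j)
    have hφ : JB φ := by
      constructor
      · intro x y hxy
        funext j
        exact congrFun hxy j
      · intro y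
        exact ⟨y, rfl⟩
    let e₀ : G.obj (ModuleCat.of A (∀ j, Z j)) →+ ∀ j, G.obj (Z j) :=
      { toFun := fun x j => (G.map (φ j)).hom x
        map_zero' := by funext j; exact map_zero _
        map_add' := fun x y => by funext j; exact map_add _ x y }
    let e : G.obj (ModuleCat.of A (∀ j, Z j)) ≃+ ∀ j, G.obj (Z j) :=
      AddEquiv.ofBijective e₀ (hG _ _ φ hφ)
    have he : ∀ (y : ∀ j, G.obj (Z j)) (j : J), (G.map (φ j)).hom (e.symm y) = y j := by
      intro y j
      exact congrFun (e.apply_symm_apply y) j
    exact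
      { lift := fun s => AddCommGrpCat.ofHom (e.symm.toAddMonoidHom.comp
          { toFun := fun x j => (s.π.app ⟨j⟩).hom x
            map_zero' := by funext j; exact map_zero _
            map_add' := fun x y => by funext j; exact map_add _ x y })
        fac := fun s j => by
          ext x
          exact he _ j.as
        uniq := fun s m w => by
          ext x
          apply e.injective
          funext j
          refine Eq.trans ?_ (he (fun j => (s.π.app ⟨j⟩).hom x) j).symm
          exact CategoryTheory.congr_fun (w ⟨j⟩) x }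
  exact preservesLimitsOfShape_of_discrete G

/-- `M ↦ H_p(P ⊗ M)` preserves products when the terms of `P` are finite free. -/
theorem tFun_preserves {ι : Type} {c : ComplexShape ι} (P : HomologicalComplex (ModuleCat.{u} A) c)
    (hP : ∀ i, Module.Finite A (P.X i) ∧ Module.Free A (P.X i)) (p : ι) (J : Type u) :
    PreservesLimitsOfShape (Discrete J) (CohIII.TFun P p ⋙ forget₂ (ModuleCat.{u} A) AddCommGrpCat.{u}) :=
  preservesLimitsOfShape _ fun _ _ _ hφ => JB.tFun P hP p hφ

end Limits

end K836.TFunProd
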